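import Groth.Agent.WeilResLib.Maps
import Groth.Agent.FlatLib.GenericFP
import Groth.Agent.S0346
import Groth.Agent.FFDescLib.Closure
import Groth.Prelude.Def_Red2

/-!
# Separatedness and essential freeness over a non-empty open
-/

set_option autoImplicit false
set_option backward.isDefEq.respectTransparency false
set_option linter.style.haveILetI false

noncomputable section

universe u

open CategoryTheory CategoryTheory.Limits MonoidalCategory CartesianMonoidalCategory AlgebraicGeometry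
open scoped MonObj TensorProduct

namespace Groth.Agent.GenTransp

variable {S : Scheme.{u}}

/-- A closed set of the source avoiding the generic fibre avoids it over a non-empty open. -/
theorem exists_open_avoid [IsIntegral S] {X : Scheme.{u}} (p : X ⟶ S) [QuasiCompact p] {C : Set X} (hC : IsClosed C)
    (h : ∀ z ∈ C, p z ≠ genericPoint ↥S) :
    ∃ U : S.Opens, genericPoint ↥S ∈ U ∧ ∀ z ∈ C, p z ∉ U := by
  let I := Scheme.IdealSheafData.vanishingIdeal ⟨C, hC⟩
  have hrg : Set.range I.subschemeι = C := by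
    rw [Scheme.IdealSheafData.range_subschemeι, Scheme.IdealSheafData.coe_support_vanishingIdeal]
    rfl
  refine ⟨⟨(closure (Set.range (I.subschemeι ≫ p)))ᶜ, isClosed_closure.isOpen_compl⟩, fun hη => ?_, fun z hz hU => ?_⟩
  · obtain ⟨x, hy'⟩ := FFDescLib.exists_specializes_of_mem_closure_range (I.subschemeι ≫ p) hη
    have he : (I.subschemeι ≫ p) x = genericPoint ↥S :=
      (hy'.antisymm ((genericPoint_spec ↥S).specializes trivial)).eq
    exact h (I.subschemeι x) (hrg ▸ ⟨x, rfl⟩) ((Scheme.Hom.comp_apply _ _ _).symm.trans he)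
  · obtain ⟨x, rfl⟩ := hrg.symm ▸ hz
    exact hU (subset_closure ⟨x, Scheme.Hom.comp_apply _ _ _⟩)

/-- The range of a section is closed near the generic fibre. -/
theorem mem_range_of_mem_closure [IsIntegral S] {X : Scheme.{u}} (p : X ⟶ S) (e : S ⟶ X) (he : e ≫ p = 𝟙 S)
    {z : X} (hz : z ∈ closure (Set.range e)) (hzη : p z = genericPoint ↥S) : z ∈ Set.range e := by
  obtain ⟨V, hV, hηV, -⟩ := exists_isAffineOpen_mem_and_subset (X := S) (x := genericPoint ↥S) (U := ⊤) trivial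
  obtain ⟨W, hW, hzW, hWV⟩ := exists_isAffineOpen_mem_and_subset (X := X) (x := z) (U := p ⁻¹ᵁ V) (by
    show p z ∈ V
    rwa [hzη])
  obtain ⟨w, hwW, hw⟩ := mem_closure_iff.1 hz W W.2 hzW
  obtain ⟨s, rfl⟩ := hw
  let O : S.Opens := e ⁻¹ᵁ W
  have hηO : genericPoint ↥S ∈ O := (genericPoint_spec ↥S).mem_open_set_iff O.2 |>.2 ⟨s, trivial, hwW⟩
  have hOV : O ≤ V := fun x hx => by
    have h1 : p (e x) ∈ V := hWV hx
    rwa [← Scheme.Hom.comp_apply, he] at h1
  let W' : X.Opens := W ⊓ p ⁻¹ᵁ O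
  haveI : IsAffine (W : Scheme.{u}) := hW
  haveI : IsAffine (V : Scheme.{u}) := hV
  haveI : IsSeparated (W.ι ≫ p) := by
    have h1 : W.ι ≫ p = p.resLE V W hWV ≫ V.ι := (Scheme.Hom.resLE_comp_ι _ _).symm
    rw [h1]; infer_instance
  haveI : IsSeparated (W'.ι ≫ p) := by
    rw [← X.homOfLE_ι (inf_le_left : W' ≤ W), Category.assoc]; infer_instance
  let π := p.resLE O W' inf_le_right
  haveI : IsSeparated π := by
    have h1 : IsSeparated (π ≫ O.ι) := by rw [Scheme.Hom.resLE_comp_ι]; infer_instance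
    exact IsSeparated.of_comp π O.ι
  let σ := e.resLE W' O (fun x hx => ⟨hx, show p (e x) ∈ O by rwa [← Scheme.Hom.comp_apply, he]⟩)
  haveI : IsClosedImmersion σ := by
    have h1 : σ ≫ π = 𝟙 _ := by
      rw [← cancel_mono O.ι, Category.assoc, Scheme.Hom.resLE_comp_ι, Scheme.Hom.resLE_comp_ι_assoc, he,
        Category.comp_id, Category.id_comp]
    haveI : IsClosedImmersion (σ ≫ π) := by rw [h1]; infer_instance
    exact IsClosedImmersion.of_comp σ π
  have hσ : ∀ x : O, W'.ι (σ x) = e x.1 := fun x => by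
    rw [← Scheme.Hom.comp_apply, Scheme.Hom.resLE_comp_ι]; rfl
  have hzW' : z ∈ W' := ⟨hzW, show p z ∈ O by rwa [hzη]⟩
  by_contra hne
  have hz' : (⟨z, hzW'⟩ : W') ∉ Set.range σ := fun ⟨x, hx⟩ => hne ⟨x.1, by
    rw [← hσ, hx]; rfl⟩
  obtain ⟨N, hN, hzN, hNσ⟩ : ∃ N : Set X, IsOpen N ∧ z ∈ N ∧ ∀ x : W', x.1 ∈ N → x ∉ Set.range σ :=
    ⟨Subtype.val '' ((Set.range σ)ᶜ : Set W'), W'.2.isOpenEmbedding_subtypeVal.isOpenMap _ σ.isClosedEmbedding.isClosed_range.isOpen_compl,
      ⟨⟨z, hzW'⟩, hz', rfl⟩, fun x ⟨y, hy, hyx⟩ => (Subtype.ext hyx : y = x) ▸ hy⟩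
  obtain ⟨_, hN', s', rfl⟩ := mem_closure_iff.1 hz (N ∩ W') (hN.inter W'.2) ⟨hzN, hzW'⟩
  exact hNσ ⟨e s', hN'.2⟩ hN'.1 ⟨⟨s', hN'.2.1⟩, Subtype.ext (hσ _)⟩

/-- A group scheme over an integral base is separated over a non-empty open. -/
theorem exists_open_isSeparated [IsIntegral S] (G : Over S) [GrpObj G] [QuasiCompact G.hom] :
    ∃ U : S.Opens, (U : Set S).Nonempty ∧ ∀ U' : S.Opens, U' ≤ U → IsSeparated (Red.bc U'.ι G).hom := by
  let e : S ⟶ G.left := η[G].left
  have he : e ≫ G.hom = 𝟙 S := Over.w η[G]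
  haveI : IsImmersion (e ≫ G.hom) := he ▸ inferInstance
  haveI : IsImmersion e := IsImmersion.of_comp e G.hom
  have hC : IsClosed (closure (Set.range e) \ Set.range e) := by
    rw [Set.sdiff_eq, ← isOpen_compl_iff, Set.compl_inter, compl_compl]
    rw [show (closure (Set.range e))ᶜ ∪ Set.range e = coborder (Set.range e) by rw [coborder, Set.compl_sdiff, Set.union_comm]]
    exact isLocallyClosed_iff_isOpen_coborder.1 e.isLocallyClosed_range
  obtain ⟨U, hηU, hU⟩ := exists_open_avoid G.hom hC fun z hz hzη =>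
    hz.2 (mem_range_of_mem_closure G.hom e he hz.1 hzη)
  refine ⟨U, ⟨_, hηU⟩, fun U' hU' => ?_⟩
  rw [(Groth.Agent.S0346.result _ (Red.bc U'.ι G)).1]
  let f := pullback.fst G.hom U'.ι
  have hη : η[Red.bc U'.ι G].left ≫ f = U'.ι ≫ e := by
    rw [CategoryTheory.Functor.obj.η_def]
    simp [f, Red.bc, e]
  haveI : IsImmersion (η[Red.bc U'.ι G].left ≫ (Red.bc U'.ι G).hom) := by
    rw [Over.w]; exact inferInstanceAs (IsImmersion (𝟙 (U' : Scheme.{u})))
  haveI : IsImmersion η[Red.bc U'.ι G].left := IsImmersion.of_comp _ (Red.bc U'.ι G).hom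
  refine IsClosedImmersion.of_isPreimmersion _ ?_
  have hr : Set.range η[Red.bc U'.ι G].left = f ⁻¹' closure (Set.range e) := by
    refine Set.Subset.antisymm ?_ fun z hz => ?_
    · rintro _ ⟨s, rfl⟩
      exact subset_closure ⟨U'.ι s, (congrArg (fun m : _ ⟶ G.left => m s) hη).symm⟩
    · have hzU : G.hom (f z) ∈ U' := by
        rw [← Scheme.Hom.comp_apply, pullback.condition, Scheme.Hom.comp_apply]
        exact ((pullback.snd G.hom U'.ι) z).2
      obtain ⟨s, hs⟩ : f z ∈ Set.range e := by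
        by_contra hne
        exact hU _ ⟨hz, hne⟩ (hU' hzU)
      have hsU : s ∈ U' := by rwa [← hs, ← Scheme.Hom.comp_apply, he] at hzU
      refine ⟨⟨s, hsU⟩, f.isOpenEmbedding.injective ?_⟩
      exact (congrArg (fun m : (U' : Scheme.{u}) ⟶ G.left => m ⟨s, hsU⟩) hη).trans hs
  rw [hr]
  exact isClosed_closure.preimage f.continuous

/-- A morphism to an affine scheme covered by affines with projective coordinate rings is essentially free. -/
theorem isEssentiallyFree_of_charts {B : Type u} [CommRing B] {Z : Scheme.{u}} (f : Z ⟶ Spec (CommRingCat.of B))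
    (hcov : ∀ z : Z, ∃ (A : Type u) (_ : CommRing A) (_ : Algebra B A) (c : Spec (CommRingCat.of A) ⟶ Z),
      IsOpenImmersion c ∧ z ∈ Set.range c ∧ c ≫ f = Groth.Agent.WeilRes.sp (algebraMap B A) ∧ Module.Projective B A) :
    SGA3x.IsEssentiallyFree f := by
  intro s
  let U : (Spec (CommRingCat.of B)).Opens := ⊤
  haveI : IsAffine (U : Scheme.{u}) := isAffineOpen_top _
  haveI : IsIso U.ι := (Scheme.topIso _).isIso_hom
  refine ⟨U, trivial, isAffineOpen_top _, U, inferInstance, 𝟙 _, inferInstance, inferInstance, fun x => ?_⟩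
  let P := pullback f (𝟙 (U : Scheme.{u}) ≫ U.ι)
  obtain ⟨A, iA, iAlg, c, hc, ⟨a, ha⟩, hcf, hproj⟩ := hcov (pullback.fst f (𝟙 (U : Scheme.{u}) ≫ U.ι) x)
  haveI := hc
  let c' : Spec (CommRingCat.of A) ⟶ P := pullback.lift c (c ≫ f ≫ inv U.ι) (by simp)
  haveI : IsIso (pullback.fst f (𝟙 (U : Scheme.{u}) ≫ U.ι)) := inferInstance
  haveI : IsOpenImmersion c' := by
    have h1 : c' = c ≫ inv (pullback.fst f (𝟙 (U : Scheme.{u}) ≫ U.ι)) := by
      rw [IsIso.eq_comp_inv, pullback.lift_fst]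
    rw [h1]; infer_instance
  refine ⟨c'.opensRange, ⟨a, ?_⟩, isAffineOpen_opensRange c', ?_⟩
  · apply (pullback.fst f (𝟙 (U : Scheme.{u}) ≫ U.ι)).isOpenEmbedding.injective
    rw [← Scheme.Hom.comp_apply, pullback.lift_fst, ha]
  haveI : IsAffine (c'.opensRange : Scheme.{u}) := isAffineOpen_opensRange c'
  have hsq : IsPullback c'.isoOpensRange.inv (c'.opensRange.ι ≫ pullback.snd f (𝟙 (U : Scheme.{u}) ≫ U.ι))
      (Groth.Agent.WeilRes.sp (algebraMap B A)) U.ι := by
    refine IsPullback.of_horiz_isIso ⟨?_⟩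
    rw [← hcf, Category.assoc]
    have h1 : c'.isoOpensRange.inv ≫ c' = c'.opensRange.ι := Scheme.Hom.isoOpensRange_inv_comp c'
    rw [← h1, Category.assoc, pullback.lift_snd_assoc]
    simp
  refine Groth.Agent.WeilRes.projective_appTop_of_isPullback hsq ?_
  refine Groth.Agent.WeilRes.projective_of_square (CommRingCat.ofHom (algebraMap B A)) _
    (Scheme.ΓSpecIso (CommRingCat.of B)).inv (Scheme.ΓSpecIso (CommRingCat.of A)).inv ?_ ?_
  · exact Scheme.ΓSpecIso_inv_naturality _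
  · convert hproj
    exact (Algebra.algebra_ext _ iAlg fun _ => rfl)

/-- A quasi-compact morphism of finite type to an integral scheme is essentially free over a non-empty open. -/
theorem exists_open_isEssentiallyFree [IsIntegral S] (Y : Over S) [LocallyOfFiniteType Y.hom] [QuasiCompact Y.hom] :
    ∃ U : S.Opens, (U : Set S).Nonempty ∧ ∀ U' : S.Opens, U' ≤ U → SGA3x.IsEssentiallyFree (Red.bc U'.ι Y).hom := by
  classical
  obtain ⟨V, hV, hηV, -⟩ := exists_isAffineOpen_mem_and_subset (X := S) (x := genericPoint ↥S) (U := ⊤) trivial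
  haveI : Nonempty V := ⟨⟨_, hηV⟩⟩
  have hcpt : IsCompact ((Y.hom ⁻¹ᵁ V : Y.left.Opens) : Set Y.left) :=
    QuasiCompact.isCompact_preimage (f := Y.hom) _ V.2 hV.isCompact
  obtain ⟨t, ht⟩ := hcpt.elim_finite_subcover (fun W : {W : Y.left.affineOpens // (W : Y.left.Opens) ≤ Y.hom ⁻¹ᵁ V} =>
      ((W.1 : Y.left.Opens) : Set Y.left)) (fun W => (W.1 : Y.left.Opens).2) (fun y hy => by
    obtain ⟨W, hW, hyW, hWV⟩ := exists_isAffineOpen_mem_and_subset (X := Y.left) (U := Y.hom ⁻¹ᵁ V) hy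
    exact Set.mem_iUnion.2 ⟨⟨⟨W, hW⟩, hWV⟩, hyW⟩)
  let R : Type u := Γ(S, V)
  let alg : ∀ W : {W : Y.left.affineOpens // (W : Y.left.Opens) ≤ Y.hom ⁻¹ᵁ V}, Algebra R Γ(Y.left, W.1) :=
    fun W => (Y.hom.appLE V W.1 W.2).hom.toAlgebra
  have hfree : ∀ W : {W : Y.left.affineOpens // (W : Y.left.Opens) ≤ Y.hom ⁻¹ᵁ V}, ∃ f : R, f ≠ 0 ∧
      ∀ f' : R, f ∣ f' → letI := alg W; Module.Free (Localization.Away f') (Localization.Away f' ⊗[R] Γ(Y.left, W.1)) := by
    intro W
    letI := alg W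
    haveI : Algebra.FiniteType R Γ(Y.left, W.1) := Y.hom.finiteType_appLE hV W.1.2 W.2
    obtain ⟨f, hf, -, h, -, -⟩ := FlatLib.generic_freeness_fp (R := R) (S := Γ(Y.left, W.1)) (M := Γ(Y.left, W.1))
    exact ⟨f, hf, fun f' hd => FlatLib.free_tensor_of_isUnit _ (isUnit_of_dvd_unit (map_dvd _ hd)
      (IsLocalization.Away.algebraMap_isUnit (S := Localization.Away f') f')) h⟩
  choose f hf hfree using hfree
  let g : R := ∏ W ∈ t, f W
  have hg : g ≠ 0 := Finset.prod_ne_zero_iff.2 fun W _ => hf W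
  let B := Localization.Away g
  let j : Spec (CommRingCat.of B) ⟶ S := Groth.Agent.WeilRes.sp (algebraMap R B) ≫ hV.fromSpec
  haveI : IsOpenImmersion (Groth.Agent.WeilRes.sp (algebraMap R B)) := IsOpenImmersion.of_isLocalization g
  refine ⟨j.opensRange, ?_, fun U' hU' => ?_⟩
  · obtain ⟨p⟩ : Nonempty (PrimeSpectrum B) := by
      haveI : Nontrivial B :=
        (IsLocalization.injective B (powers_le_nonZeroDivisors_of_noZeroDivisors hg)).nontrivial
      infer_instance
    exact ⟨j p, p, rfl⟩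
  have hess : SGA3x.IsEssentiallyFree (pullback.snd Y.hom j) := by
    refine isEssentiallyFree_of_charts _ fun z => ?_
    have hzV : pullback.fst Y.hom j z ∈ Y.hom ⁻¹ᵁ V := by
      show Y.hom (pullback.fst Y.hom j z) ∈ (V : Set S)
      rw [← Scheme.Hom.comp_apply, pullback.condition, Scheme.Hom.comp_apply, ← hV.range_fromSpec]
      exact ⟨_, (Scheme.Hom.comp_apply _ _ _).symm⟩
    obtain ⟨W, hWt, hzW⟩ := Set.mem_iUnion₂.1 (ht hzV)
    letI := alg W
    let A := B ⊗[R] Γ(Y.left, W.1)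
    haveI := hfree W g (Finset.dvd_prod_of_mem f hWt)
    have hT : IsPullback (Groth.Agent.WeilRes.sp (Algebra.TensorProduct.includeRight : Γ(Y.left, W.1) →ₐ[R] A).toRingHom)
        (Groth.Agent.WeilRes.sp (algebraMap B A)) (Groth.Agent.WeilRes.sp (algebraMap R Γ(Y.left, W.1)))
        (Groth.Agent.WeilRes.sp (algebraMap R B)) :=
      (isPullback_SpecMap_of_isPushout _ _ _ _ (CommRingCat.isPushout_tensorProduct R B Γ(Y.left, W.1))).flip
    have hWf : W.1.2.fromSpec ≫ Y.hom = Groth.Agent.WeilRes.sp (algebraMap R Γ(Y.left, W.1)) ≫ hV.fromSpec :=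
      (hV.SpecMap_appLE_fromSpec Y.hom W.1.2 W.2).symm
    let c := pullback.lift (f := Y.hom) (g := j)
      (Groth.Agent.WeilRes.sp (Algebra.TensorProduct.includeRight : Γ(Y.left, W.1) →ₐ[R] A).toRingHom ≫ W.1.2.fromSpec)
      (Groth.Agent.WeilRes.sp (algebraMap B A)) (by rw [Category.assoc, hWf, ← Category.assoc, hT.w, Category.assoc])
    have hc1 : c ≫ pullback.fst Y.hom j =
        Groth.Agent.WeilRes.sp (Algebra.TensorProduct.includeRight : Γ(Y.left, W.1) →ₐ[R] A).toRingHom ≫ W.1.2.fromSpec :=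
      pullback.lift_fst _ _ _
    have hsq : IsPullback c (Groth.Agent.WeilRes.sp (Algebra.TensorProduct.includeRight : Γ(Y.left, W.1) →ₐ[R] A).toRingHom)
        (pullback.fst Y.hom j) W.1.2.fromSpec := by
      refine IsPullback.of_right (h₁₂ := pullback.snd Y.hom j) (v₁₃ := j) (h₂₂ := Y.hom) ?_ hc1
        (IsPullback.of_hasPullback Y.hom j).flip
      rw [pullback.lift_snd, hWf]
      simpa only [Category.comp_id] using hT.flip.paste_vert
        (IsPullback.of_vert_isIso_mono (fst := Groth.Agent.WeilRes.sp (algebraMap R Γ(Y.left, W.1)))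
        (snd := 𝟙 _) (f := hV.fromSpec) (g := Groth.Agent.WeilRes.sp (algebraMap R Γ(Y.left, W.1)) ≫ hV.fromSpec)
        ⟨(Category.id_comp _).symm⟩)
    haveI : IsOpenImmersion c := MorphismProperty.of_isPullback hsq.flip (inferInstance : IsOpenImmersion W.1.2.fromSpec)
    obtain ⟨w, hw⟩ : pullback.fst Y.hom j z ∈ Set.range W.1.2.fromSpec := by rw [W.1.2.range_fromSpec]; exact hzW
    obtain ⟨a, ha, -⟩ := Scheme.exists_preimage_of_isPullback hsq z w hw.symm
    exact ⟨A, inferInstance, inferInstance, c, inferInstance, ⟨a, ha⟩, pullback.lift_snd _ _ _, inferInstance⟩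
  -- transfer to `U'`
  have hsub : Set.range U'.ι ⊆ Set.range j := by rw [Scheme.Opens.range_ι]; exact hU'
  let m := IsOpenImmersion.lift j U'.ι hsub
  have hm : m ≫ j = U'.ι := IsOpenImmersion.lift_fac _ _ _
  refine Groth.Agent.WeilRes.isEssentiallyFree_baseChange _ hess m _
    (pullback.lift (pullback.fst Y.hom U'.ι) (pullback.snd Y.hom U'.ι ≫ m) (by rw [Category.assoc, hm, pullback.condition])) ?_
  refine IsPullback.of_right ?_ (pullback.lift_snd _ _ _) (IsPullback.of_hasPullback Y.hom j)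
  rw [pullback.lift_fst, hm]
  exact IsPullback.of_hasPullback _ _

end Groth.Agent.GenTransp
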