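import Groth.Agent.GenTranspLib.Basic
import Groth.Agent.GrpHomLib.Field
import Groth.Agent.RichLib.LimitDescent
import Groth.Agent.SubmDescLib.StalkSys

/-!
# A quasi-compact monomorphism of group schemes is a closed immersion over a non-empty open
-/

set_option autoImplicit false
set_option backward.isDefEq.respectTransparency false
set_option linter.style.haveILetI false

noncomputable section

universe u

open CategoryTheory CategoryTheory.Limits MonoidalCategory CartesianMonoidalCategory AlgebraicGeometry
open scoped MonObj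

namespace Groth.Agent.GenTransp

variable {S : Scheme.{u}} {G H : Over S} (i : H ⟶ G)

/-- The base change of a morphism over `S` is a base change of it. -/
theorem mapLeft_isPullback {T : Scheme.{u}} (k : T ⟶ S) :
    IsPullback (pullback.fst H.hom k) ((Over.pullback k).map i).left i.left (pullback.fst G.hom k) := by
  have h1 : ((Over.pullback k).map i).left ≫ pullback.fst G.hom k = pullback.fst H.hom k ≫ i.left :=
    pullback.lift_fst _ _ _
  have h2 : ((Over.pullback k).map i).left ≫ pullback.snd G.hom k = pullback.snd H.hom k :=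
    pullback.lift_snd _ _ _
  refine IsPullback.of_bot ?_ h1.symm (IsPullback.of_hasPullback G.hom k)
  rw [h2, Over.w]
  exact IsPullback.of_hasPullback H.hom k

variable (P : MorphismProperty Scheme.{u}) [P.RespectsIso]

theorem mapLeft_iff {T : Scheme.{u}} (k : T ⟶ S) :
    P ((Over.pullback k).map i).left ↔ P (pullback.snd i.left (pullback.fst G.hom k)) := by
  rw [← (mapLeft_isPullback i k).isoPullback_hom_snd, P.cancel_left_of_respectsIso]

theorem mapLeft_comp_iff {T' T : Scheme.{u}} (l : T' ⟶ T) (k : T ⟶ S) :
    P ((Over.pullback (l ≫ k)).map i).left ↔ P ((Over.pullback l).map ((Over.pullback k).map i)).left := by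
  let e := Over.pullbackComp l k
  exact P.arrow_mk_iso_iff (Arrow.isoMk ((Over.forget _).mapIso (e.app H)) ((Over.forget _).mapIso (e.app G))
    (congrArg CommaMorphism.left (e.hom.naturality i).symm))

theorem exists_open_isClosedImmersion [IsIntegral S] [GrpObj G] [GrpObj H] [LocallyOfFiniteType G.hom]
    [QuasiCompact G.hom] [LocallyOfFiniteType H.hom] [QuasiCompact H.hom] [QuasiSeparated H.hom]
    [IsMonHom i] [Mono i.left] [QuasiCompact i.left] :
    ∃ U : S.Opens, (U : Set S).Nonempty ∧
      ∀ U' : S.Opens, U' ≤ U → IsClosedImmersion ((Over.pullback U'.ι).map i).left := by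
  obtain ⟨V, hV, hηV, -⟩ := exists_isAffineOpen_mem_and_subset (X := S) (x := genericPoint ↥S) (U := ⊤) trivial
  haveI : Nonempty V := ⟨⟨_, hηV⟩⟩
  let R : CommRingCat.{u} := Γ(S, V)
  haveI : IsDomain R := inferInstanceAs (IsDomain Γ(S, V))
  let j : Spec R ⟶ S := hV.fromSpec
  let p : PrimeSpectrum R := ⟨⊥, Ideal.isPrime_bot⟩
  let K := Localization.AtPrime p.asIdeal
  have hK : IsField K := by
    rw [IsLocalRing.isField_iff_maximalIdeal_eq, ← Localization.AtPrime.map_eq_maximalIdeal]
    exact Ideal.map_bot
  letI : Field K := hK.toField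
  -- over `Spec R`
  let GR := (Over.pullback j).obj G
  let HR := (Over.pullback j).obj H
  let iR : HR ⟶ GR := (Over.pullback j).map i
  haveI : QuasiCompact GR.hom := MorphismProperty.pullback_snd _ _ ‹QuasiCompact G.hom›
  haveI : QuasiSeparated HR.hom := MorphismProperty.pullback_snd _ _ ‹QuasiSeparated H.hom›
  haveI : LocallyOfFiniteType HR.hom := MorphismProperty.pullback_snd _ _ ‹LocallyOfFiniteType H.hom›
  haveI : LocallyOfFiniteType GR.hom := MorphismProperty.pullback_snd _ _ ‹LocallyOfFiniteType G.hom›
  haveI : LocallyOfFiniteType iR.left := by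
    haveI : LocallyOfFiniteType (iR.left ≫ GR.hom) := (Over.w iR).symm ▸ inferInstance
    exact locallyOfFiniteType_of_comp iR.left GR.hom
  haveI : QuasiSeparated iR.left := by
    haveI : QuasiSeparated (iR.left ≫ GR.hom) := (Over.w iR).symm ▸ inferInstance
    exact QuasiSeparated.of_comp iR.left GR.hom
  haveI : QuasiCompact iR.left :=
    MorphismProperty.of_isPullback (mapLeft_isPullback i j) ‹QuasiCompact i.left›
  haveI : CompactSpace GR.left := QuasiCompact.compactSpace_of_compactSpace GR.hom
  -- the generic fibre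
  let locι : Spec (CommRingCat.of K) ⟶ Spec R := SubmDescLib.locι R p
  haveI : IsClosedImmersion ((Over.pullback locι).map iR).left := by
    refine (mapLeft_comp_iff i @IsClosedImmersion locι j).1 ?_
    let k : Spec (CommRingCat.of K) ⟶ S := locι ≫ j
    letI : GrpObj ((Over.pullback k).obj G) := Functor.grpObjObj
    letI : GrpObj ((Over.pullback k).obj H) := Functor.grpObjObj
    haveI : LocallyOfFiniteType ((Over.pullback k).obj H).hom := MorphismProperty.pullback_snd _ _ ‹LocallyOfFiniteType H.hom›
    haveI : LocallyOfFiniteType ((Over.pullback k).obj G).hom := MorphismProperty.pullback_snd _ _ ‹LocallyOfFiniteType G.hom›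
    haveI : QuasiCompact ((Over.pullback k).map i).left :=
      MorphismProperty.of_isPullback (mapLeft_isPullback i k) ‹QuasiCompact i.left›
    haveI : Mono ((Over.pullback k).map i).left :=
      MorphismProperty.of_isPullback (P := MorphismProperty.monomorphisms Scheme.{u}) (mapLeft_isPullback i k) ‹Mono i.left›
    exact GrpHom.isClosedImmersion_of_mono ((Over.pullback k).map i)
  -- spreading out
  let B := RichLib.LimBC.pb (SubmDescLib.nbhdSys R p) GR.hom
  obtain ⟨f, hf⟩ := RichLib.LimBC.exists_at_isClosedImmersion B iR.left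
    ((mapLeft_iff iR @IsClosedImmersion locι).1 inferInstance)
  let O : (Spec R).Opens := SubmDescLib.Nbhd.opens R p f
  have hO : IsClosedImmersion ((Over.pullback O.ι).map iR).left := (mapLeft_iff iR @IsClosedImmersion O.ι).2 hf
  refine ⟨(O.ι ≫ j).opensRange, ⟨_, ⟨⟨p, ?_⟩, rfl⟩⟩, fun U' hU' => ?_⟩
  · show p ∈ SubmDescLib.Nbhd.opens R p f
    rw [SubmDescLib.Nbhd.opens_eq]
    exact f.2
  · let l := IsOpenImmersion.lift (O.ι ≫ j) U'.ι (by rw [Scheme.Opens.range_ι]; exact hU')
    have hl : U'.ι = (l ≫ O.ι) ≫ j := by rw [Category.assoc, IsOpenImmersion.lift_fac]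
    rw [hl]
    refine (mapLeft_comp_iff i @IsClosedImmersion _ j).2 ?_
    refine (mapLeft_comp_iff iR @IsClosedImmersion l O.ι).2 ?_
    exact MorphismProperty.of_isPullback (mapLeft_isPullback ((Over.pullback O.ι).map iR) l) hO

end Groth.Agent.GenTransp
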